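import Mathlib
import Cfsg.Agent.Lib.Helper19.KAlt.Defs

/-!
# KALT (S0747) package [SEMIEVEN]

`k`-point stabilisers of even order, semiregular outside: every `(k+1)`-set carries the full
symmetric group.
-/

set_option autoImplicit false

namespace Cfsg.Agent.Lib.Helper88.KAlt

open Cfsg.Agent.Lib.Helper75.LW Cfsg.Agent.Lib.Helper19.KAlt

universe u

theorem inv_conj_pow_left {M : Type*} [Group M] {a b : M} (ha : a * a = 1) (hb : b * b = 1)
    (n : ℕ) : a * (a * b) ^ n = ((a * b) ^ n)⁻¹ * a := by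
  have ha' : a⁻¹ = a := inv_eq_of_mul_eq_one_left ha
  have hb' : b⁻¹ = b := inv_eq_of_mul_eq_one_left hb
  have h1 : a * (a * b) * a⁻¹ = (a * b)⁻¹ := by
    rw [mul_inv_rev, ha', hb', ← mul_assoc, ha, one_mul]
  have h2 : a * (a * b) ^ n * a⁻¹ = ((a * b) ^ n)⁻¹ := by
    rw [← conj_pow, h1, inv_pow]
  calc a * (a * b) ^ n = a * (a * b) ^ n * a⁻¹ * a := by group
    _ = ((a * b) ^ n)⁻¹ * a := by rw [h2]

theorem inv_conj_pow_right {M : Type*} [Group M] {a b : M} (ha : a * a = 1) (hb : b * b = 1)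
    (n : ℕ) : b * (a * b) ^ n = ((a * b) ^ n)⁻¹ * b := by
  have ha' : a⁻¹ = a := inv_eq_of_mul_eq_one_left ha
  have hb' : b⁻¹ = b := inv_eq_of_mul_eq_one_left hb
  have h1 : b * (a * b) * b⁻¹ = (a * b)⁻¹ := by
    rw [mul_inv_rev, ha', hb', mul_assoc, mul_assoc, hb, mul_one]
  have h2 : b * (a * b) ^ n * b⁻¹ = ((a * b) ^ n)⁻¹ := by
    rw [← conj_pow, h1, inv_pow]
  calc b * (a * b) ^ n = b * (a * b) ^ n * b⁻¹ * b := by group
    _ = ((a * b) ^ n)⁻¹ * b := by rw [h2]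

variable {α : Type u}

/-- every `k`-set is the exact fixed-point set of an involution of `G`. -/
theorem exists_inv_fix [Fintype α] [DecidableEq α] {G : Subgroup (Equiv.Perm α)} {k : ℕ}
    (hT : HT G k) (hTr : Triv G (k + 1)) (hN : ¬ NoInv G k) :
    ∀ s' : Finset α, s'.card = k → ∃ u ∈ G, u * u = 1 ∧ ∀ a, u a = a ↔ a ∈ s' := by
  unfold NoInv at hN
  push Not at hN
  obtain ⟨s, hs, u, huG, hu2, hufix, hu1⟩ := hN
  have hexact : ∀ a, u a = a → a ∈ s := by
    intro a ha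
    by_contra has
    refine hu1 (hTr (insert a s) (by rw [Finset.card_insert_of_notMem has, hs]) u huG ?_)
    intro b hb
    rw [Finset.mem_insert] at hb
    rcases hb with rfl | hb
    · exact ha
    · exact hufix b hb
  intro s' hs'
  let e : s ≃ Fin k := s.equivFinOfCardEq hs
  let e' : s' ≃ Fin k := s'.equivFinOfCardEq hs'
  let x : Fin k ↪ α := ⟨fun i => ((e.symm i : s) : α), fun i j h => e.symm.injective (Subtype.ext h)⟩
  let y : Fin k ↪ α :=
    ⟨fun i => ((e'.symm i : s') : α), fun i j h => e'.symm.injective (Subtype.ext h)⟩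
  obtain ⟨g, hgG, hg⟩ := hT x y
  have hmem : ∀ a, g⁻¹ a ∈ s ↔ a ∈ s' := by
    intro a
    constructor
    · intro h
      have h1 : g⁻¹ a = x (e ⟨g⁻¹ a, h⟩) := by
        show g⁻¹ a = ((e.symm (e ⟨g⁻¹ a, h⟩) : s) : α)
        rw [Equiv.symm_apply_apply]
      have h2 : a = y (e ⟨g⁻¹ a, h⟩) := by
        rw [← hg, ← h1]; simp
      rw [h2]
      exact (e'.symm _).2
    · intro h
      have h1 : a = y (e' ⟨a, h⟩) := by
        show a = ((e'.symm (e' ⟨a, h⟩) : s') : α)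
        rw [Equiv.symm_apply_apply]
      have h2 : g⁻¹ a = x (e' ⟨a, h⟩) := by
        rw [Equiv.Perm.inv_eq_iff_eq, hg, ← h1]
      rw [h2]
      exact (e.symm _).2
  refine ⟨g * u * g⁻¹, G.mul_mem (G.mul_mem hgG huG) (G.inv_mem hgG), ?_, ?_⟩
  · calc g * u * g⁻¹ * (g * u * g⁻¹) = g * (u * u) * g⁻¹ := by group
      _ = 1 := by rw [hu2]; group
  · intro a
    rw [← hmem a]
    constructor
    · intro h
      apply hexact
      have h' : g (u (g⁻¹ a)) = a := h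
      exact g.injective (by rw [h']; simp)
    · intro h
      show g (u (g⁻¹ a)) = a
      rw [hufix _ h]; simp

/-- an element of `G` inducing a transposition on `Δ`. -/
theorem exists_swap_of_inv [Fintype α] [DecidableEq α] {G : Subgroup (Equiv.Perm α)} {k : ℕ}
    (hTr : Triv G (k + 1))
    (hinv : ∀ s' : Finset α, s'.card = k → ∃ u ∈ G, u * u = 1 ∧ ∀ a, u a = a ↔ a ∈ s')
    {Δ : Finset α} (hΔ : Δ.card = k + 1) {x v : α} (hx : x ∈ Δ) (hv : v ∈ Δ) (hxv : x ≠ v) :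
    ∃ s ∈ G, s x = v ∧ s v = x ∧ ∀ a ∈ Δ, a ≠ x → a ≠ v → s a = a := by
  obtain ⟨ux, huxG, hux2, huxF⟩ := hinv (Δ.erase v) (by rw [Finset.card_erase_of_mem hv, hΔ]; rfl)
  obtain ⟨uv, huvG, huv2, huvF⟩ := hinv (Δ.erase x) (by rw [Finset.card_erase_of_mem hx, hΔ]; rfl)
  have hux_x : ux x = x := (huxF x).mpr (Finset.mem_erase.mpr ⟨hxv, hx⟩)
  have huv_v : uv v = v := (huvF v).mpr (Finset.mem_erase.mpr ⟨hxv.symm, hv⟩)
  have hux0 : ∀ a ∈ Δ, a ≠ x → a ≠ v → ux a = a := fun a ha _ hav =>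
    (huxF a).mpr (Finset.mem_erase.mpr ⟨hav, ha⟩)
  have huv0 : ∀ a ∈ Δ, a ≠ x → a ≠ v → uv a = a := fun a ha hax _ =>
    (huvF a).mpr (Finset.mem_erase.mpr ⟨hax, ha⟩)
  have huxfix : ∀ b, ux b = b → b ∈ Δ ∧ b ≠ v := fun b hb => by
    have := (huxF b).mp hb
    rw [Finset.mem_erase] at this
    exact ⟨this.2, this.1⟩
  have huvfix : ∀ b, uv b = b → b ∈ Δ ∧ b ≠ x := fun b hb => by
    have := (huvF b).mp hb
    rw [Finset.mem_erase] at this
    exact ⟨this.2, this.1⟩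
  have hc0 : ∀ a ∈ Δ, a ≠ x → a ≠ v → (ux * uv) a = a := by
    intro a ha hax hav
    rw [Equiv.Perm.mul_apply, huv0 a ha hax hav, hux0 a ha hax hav]
  have hcG : ux * uv ∈ G := G.mul_mem huxG huvG
  have hL := inv_conj_pow_left hux2 huv2
  have hR := inv_conj_pow_right hux2 huv2
  have hm : 0 < orderOf (ux * uv) := orderOf_pos _
  have hz0 : ∀ (j : ℕ), ∀ a ∈ Δ, a ≠ x → a ≠ v → ((ux * uv) ^ j) a = a := fun j a ha hax hav =>
    Equiv.Perm.pow_apply_eq_self_of_apply_eq_self (hc0 a ha hax hav) j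
  obtain ⟨j, hj | hj⟩ := Nat.even_or_odd' (orderOf (ux * uv))
  · -- even order: contradiction
    exfalso
    have hj0 : j ≠ 0 := by omega
    have hz1 : (ux * uv) ^ j ≠ 1 := pow_ne_one_of_lt_orderOf hj0 (by omega)
    have hzz : (ux * uv) ^ j * (ux * uv) ^ j = 1 := by
      rw [← pow_add, ← two_mul, ← hj, pow_orderOf_eq_one]
    have hzinv : ((ux * uv) ^ j)⁻¹ = (ux * uv) ^ j := inv_eq_of_mul_eq_one_left hzz
    have hcomx : ux * (ux * uv) ^ j = (ux * uv) ^ j * ux := by rw [hL j, hzinv]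
    have hcomv : uv * (ux * uv) ^ j = (ux * uv) ^ j * uv := by rw [hR j, hzinv]
    have hzx : ((ux * uv) ^ j) x = x := by
      have h1 : ux (((ux * uv) ^ j) x) = ((ux * uv) ^ j) x := by
        rw [← Equiv.Perm.mul_apply, hcomx, Equiv.Perm.mul_apply, hux_x]
      obtain ⟨h2, h3⟩ := huxfix _ h1
      by_contra h4
      have h5 := hz0 j _ h2 h4 h3
      exact h4 (((ux * uv) ^ j).injective h5)
    have hzv : ((ux * uv) ^ j) v = v := by
      have h1 : uv (((ux * uv) ^ j) v) = ((ux * uv) ^ j) v := by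
        rw [← Equiv.Perm.mul_apply, hcomv, Equiv.Perm.mul_apply, huv_v]
      obtain ⟨h2, h3⟩ := huvfix _ h1
      by_contra h4
      have h5 := hz0 j _ h2 h3 h4
      exact h4 (((ux * uv) ^ j).injective h5)
    refine hz1 (hTr Δ hΔ ((ux * uv) ^ j) (G.pow_mem hcG j) ?_)
    intro a ha
    by_cases hax : a = x
    · rw [hax, hzx]
    by_cases hav : a = v
    · rw [hav, hzv]
    exact hz0 j a ha hax hav
  · -- odd order
    have hpow : (ux * uv) ^ j * (ux * uv) ^ (j + 1) = 1 := by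
      rw [← pow_add, show j + (j + 1) = 2 * j + 1 by ring, ← hj, pow_orderOf_eq_one]
    have hcinv : ((ux * uv) ^ (j + 1))⁻¹ = (ux * uv) ^ j := inv_eq_of_mul_eq_one_left hpow
    have hcinv1 : (ux * uv)⁻¹ = uv * ux := by
      rw [mul_inv_rev, inv_eq_of_mul_eq_one_left hux2, inv_eq_of_mul_eq_one_left huv2]
    have hss : (ux * uv) ^ j * ux * ((ux * uv) ^ j * ux) = 1 := by
      calc (ux * uv) ^ j * ux * ((ux * uv) ^ j * ux)
          = (ux * uv) ^ j * (ux * (ux * uv) ^ j) * ux := by group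
        _ = (ux * uv) ^ j * (((ux * uv) ^ j)⁻¹ * ux) * ux := by rw [hL j]
        _ = ux * ux := by group
        _ = 1 := hux2
    have hvs : uv * ((ux * uv) ^ j * ux) = (ux * uv) ^ j * ux * ux := by
      calc uv * ((ux * uv) ^ j * ux) = (uv * (ux * uv) ^ j) * ux := by group
        _ = ((ux * uv) ^ j)⁻¹ * uv * ux := by rw [hR j]
        _ = ((ux * uv) ^ j)⁻¹ * (ux * uv)⁻¹ := by rw [hcinv1, mul_assoc]
        _ = ((ux * uv) ^ (j + 1))⁻¹ := by
          rw [pow_succ', mul_inv_rev (ux * uv) ((ux * uv) ^ j)]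
        _ = (ux * uv) ^ j := hcinv
        _ = (ux * uv) ^ j * ux * ux := by rw [mul_assoc, hux2, mul_one]
    have hs0 : ∀ a ∈ Δ, a ≠ x → a ≠ v → ((ux * uv) ^ j * ux) a = a := by
      intro a ha hax hav
      rw [Equiv.Perm.mul_apply, hux0 a ha hax hav, hz0 j a ha hax hav]
    have hsx : ((ux * uv) ^ j * ux) x = v := by
      have h1 : uv (((ux * uv) ^ j * ux) x) = ((ux * uv) ^ j * ux) x := by
        rw [← Equiv.Perm.mul_apply, hvs, Equiv.Perm.mul_apply, hux_x]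
      obtain ⟨h2, h3⟩ := huvfix _ h1
      by_contra h4
      have h5 := hs0 _ h2 h3 h4
      exact h3 (((ux * uv) ^ j * ux).injective h5)
    refine ⟨(ux * uv) ^ j * ux, G.mul_mem (G.pow_mem hcG j) huxG, hsx, ?_, hs0⟩
    calc ((ux * uv) ^ j * ux) v = ((ux * uv) ^ j * ux) (((ux * uv) ^ j * ux) x) := by rw [hsx]
      _ = ((ux * uv) ^ j * ux * ((ux * uv) ^ j * ux)) x := rfl
      _ = x := by rw [hss]; rfl

theorem pkgSemiEven : PkgSemiEven.{u} := by
  intro α _ _ G k hk hT hTr hN Δ hΔ σ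
  classical
  have hinv := exists_inv_fix hT hTr hN
  induction σ using Equiv.Perm.swap_induction_on with
  | one => exact ⟨1, G.one_mem, fun x => rfl⟩
  | swap_mul f x y hxy ih =>
    obtain ⟨g, hg, hgf⟩ := ih
    obtain ⟨s, hs, hsx, hsy, hs0⟩ :=
      exists_swap_of_inv hTr hinv hΔ x.2 y.2 (fun h => hxy (Subtype.ext h))
    refine ⟨s * g, G.mul_mem hs hg, fun a => ?_⟩
    rw [Equiv.Perm.mul_apply, hgf, Equiv.Perm.mul_apply]
    by_cases h1 : f a = x
    · rw [h1, Equiv.swap_apply_left, hsx]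
    by_cases h2 : f a = y
    · rw [h2, Equiv.swap_apply_right, hsy]
    rw [Equiv.swap_apply_of_ne_of_ne h1 h2]
    exact hs0 _ (f a).2 (fun h => h1 (Subtype.ext h)) (fun h => h2 (Subtype.ext h))

end Cfsg.Agent.Lib.Helper88.KAlt
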